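import Cfsg.Agent.RL.Defs

/-!
# The Curtis formula for the unit part (helper4, project RL)

* `Set0.ulam_zero`, `Set0.ulam_sing` : the kernel vanishes unless the `l`-parts are conjugate;
* `LConst`, `uind_mul`, `ures_mul` : functions which are constant on the `l`-sections;
* `Cu`, `Cu.ulam_eq`, `Cu.ures_eq` : the Curtis formula;
* `ulam_central`, `uind_central`, `ures_central` : central elements.
-/

set_option autoImplicit false

namespace Cfsg.Agent.RL

open Cfsg Cfsg.Agent.DL.Lef Cfsg.Agent.DL.CF Cfsg.Agent.DL.Uni Cfsg.Agent.RL.Fix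

variable {Γ : Type*} [Group Γ] {E : Type*} [NormedField E] {ψ : ℂ →+* E} {F : MulAut Γ} {H HF K C CF K' : Subgroup Γ}
  {V V' : Set Γ} {g s t u v z : Γ} {f φ : Γ → ℂ} {l : ℕ}

theorem exists_pow_two (hs : IsUni l s) (ht : IsUni l t) : ∃ e, s ^ l ^ e = 1 ∧ t ^ l ^ e = 1 := by
  obtain ⟨a, ha⟩ := hs
  obtain ⟨b, hb⟩ := ht
  exact ⟨a + b, by rw [pow_add, pow_mul, ← ha, pow_orderOf_eq_one, one_pow],
    by rw [pow_add, mul_comm, pow_mul, ← hb, pow_orderOf_eq_one, one_pow]⟩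

theorem loc_inv (h : Loc F H V t C) : Loc F H V t⁻¹ C :=
  ⟨h.le, fun c hc => (Commute.inv_right (h.cent c hc)).eq, fun v hv e => h.cut v hv (Commute.inv_right_iff.1 e), h.lang⟩

theorem loc_one (hV : ∀ v ∈ V, v ∈ H) (hL : ∀ a ∈ H, ∃ c ∈ H, a = c⁻¹ * F c) : Loc F H V 1 H :=
  ⟨le_rfl, fun c _ => by rw [mul_one, one_mul], fun v hv _ => hV v hv, hL⟩

/-- class functions which depend only on the `l`-part -/
structure LConst (l : ℕ) (H : Subgroup Γ) (φ : Γ → ℂ) : Prop where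
  cls : IsCls H φ
  part : ∀ s ∈ H, ∀ u ∈ H, IsUni l s → IsSs l u → s * u = u * s → φ (s * u) = φ s

theorem LConst.inv (hφ : LConst l HF φ) : LConst l HF fun g => φ g⁻¹ where
  cls g hg x hx := by
    show φ _ = φ _
    rw [conj_inv, hφ.cls _ (inv_mem hg) x hx]
  part s hs u hu h1 h2 e := by
    show φ _ = φ _
    rw [e, mul_inv_rev, hφ.part _ (inv_mem hs) _ (inv_mem hu) h1.inv h2.inv (Commute.inv_inv e).eq]

/-! ### central elements -/

theorem cntF_central (ht : t ∈ H) (hg : g ∈ H) (hz : ∀ x ∈ H, z * x = x * z) : cntF F H V (z * g) (z * t) = cntF F H V g t := by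
  funext m
  refine congrArg Nat.cast (Nat.card_congr (Equiv.subtypeEquivRight fun x => ?_))
  refine and_congr_right fun hx => and_congr_right fun _ => Eq.congr_right ?_
  calc z * g * x * (z * t)⁻¹ = z * (g * x * t⁻¹) * z⁻¹ := by group
    _ = _ := by rw [hz _ (mul_mem (mul_mem hg hx) (inv_mem ht)), mul_inv_cancel_right]

theorem ulam_central (ht : t ∈ H) (hg : g ∈ H) (hz : ∀ x ∈ H, z * x = x * z) :
    ulam ψ F H V (z * g) (z * t) = ulam ψ F H V g t := by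
  rw [ulam, ulam, cntF_central ht hg hz]

theorem uind_central (S : Set0 F H HF K V) (hK : z ∈ K) (hz : ∀ x ∈ H, z * x = x * z) (f : Γ → ℂ) (hg : g ∈ H) :
    uind ψ F H K V f (z * g) = uind ψ F H K V (fun t => f (z * t)) g := by
  have := S.finiteK
  have := Fintype.ofFinite K
  rw [uind_apply, uind_apply, ← Equiv.sum_comp (Equiv.mulLeft (⟨z, hK⟩ : K))]
  exact congrArg _ (Finset.sum_congr rfl fun t _ => congrArg (· * _) (ulam_central (S.mem (S.le t.2)) hg hz))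

theorem ures_central (S : Set0 F H HF K V) (hK : z ∈ HF) (hz : ∀ x ∈ H, z * x = x * z) (φ : Γ → ℂ) (ht : t ∈ H) :
    ures ψ F H HF V φ (z * t) = ures ψ F H HF V (fun g => φ (z * g)) t := by
  have := S.finite
  have := Fintype.ofFinite HF
  rw [ures_apply, ures_apply, ← Equiv.sum_comp (Equiv.mulLeft (⟨z, hK⟩ : HF))]
  refine congrArg _ (Finset.sum_congr rfl fun g _ => congrArg (· * _) ?_)
  show ulam ψ F H V (z * g)⁻¹ (z * t)⁻¹ = _
  rw [hz _ ht, hz _ (S.mem g.2), mul_inv_rev, mul_inv_rev]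
  exact ulam_central (inv_mem ht) (inv_mem (S.mem g.2)) fun x hx => (Commute.inv_left (hz x hx)).eq

variable [IsUltrametricDist E]

section Zero

variable (S : Set0 F H HF K V) (P : Pl l E)
include S P

theorem ulam_zero (hs : s ∈ HF) (hu : u ∈ HF) (ht : t ∈ K) (hv : v ∈ K) (h1 : IsUni l s) (h2 : IsUni l t) (h3 : IsSs l u)
    (h4 : IsSs l v) (hsu : s * u = u * s) (htv : t * v = v * t) (hC : Loc F H V t C) (h0 : ∀ x ∈ HF, x⁻¹ * s * x ≠ t) :
    ulam ψ F H V (s * u) (t * v) = 0 :=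
  let ⟨_, e1, e2⟩ := exists_pow_two h1 h2
  (ulim_close P (S.close_zero P.prime hs hu ht hv e1 e2 (P.prime.coprime_iff_not_dvd.2 h3).symm
    (P.prime.coprime_iff_not_dvd.2 h4).symm hsu htv hC h0)).trans (ulim_const 0)

/-- the kernel vanishes at a pair of an `l`-singular and an `l`-regular element -/
theorem ulam_sing (hC : Loc F H V 1 C) (hg : g ∈ HF) (hv : v ∈ K) (h1 : ¬ IsSs l g) (h2 : IsSs l v) : ulam ψ F H V g v = 0 := by
  have := Fact.mk P.prime
  have := S.finite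
  obtain ⟨u, hu, s, hs, hJ⟩ := exists_isJ (p := l) hg
  rw [← hJ.eq, hJ.comm, ← one_mul v]
  refine ulam_zero S P hs hu (one_mem K) hv hJ.uni isUni_one hJ.ss h2 hJ.comm.symm (by rw [mul_one, one_mul]) hC fun x _ e => ?_
  exact h1 (hJ.isSs_iff.2 (by simpa [mul_assoc, inv_mul_eq_one] using e))

variable (hloc : ∀ t ∈ K, IsUni l t → ∃ C, Loc F H V t C)
include hloc

theorem LConst.eq_of_ulam (hφ : LConst l HF φ) (hg : g ∈ HF) (ht : t ∈ K) (h : ulam ψ F H V g t ≠ 0) : φ g = φ t := by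
  have := Fact.mk P.prime
  have := S.finite
  have := S.finiteK
  obtain ⟨u, hu, s, hs, hJ⟩ := exists_isJ (p := l) hg
  obtain ⟨u', hu', s', hs', hJ'⟩ := exists_isJ (p := l) ht
  obtain ⟨C, hC⟩ := hloc s' hs' hJ'.uni
  rw [← hJ.eq, hJ.comm, ← hJ'.eq, hJ'.comm] at h ⊢
  have h0 := mt (ulam_zero S P hs hu hs' hu' hJ.uni hJ'.uni hJ.ss hJ'.ss hJ.comm.symm hJ'.comm.symm hC) h
  push Not at h0
  obtain ⟨x, hx, e⟩ := h0
  rw [hφ.part s hs u hu hJ.uni hJ.ss hJ.comm.symm, hφ.part s' (S.le hs') u' (S.le hu') hJ'.uni hJ'.ss hJ'.comm.symm, ← e,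
    hφ.cls.conj' hs hx]

/-- **the induction keeps the `l`-sections** -/
theorem uind_mul (hφ : LConst l HF φ) (f : Γ → ℂ) (hg : g ∈ HF) : uind ψ F H K V (φ * f) g = φ g * uind ψ F H K V f g := by
  refine (kop_congr fun t ht => ?_).trans (congrFun (map_smul (uind ψ F H K V) (φ g) f) g)
  by_cases h : ulam ψ F H V g t = 0
  · rw [h, zero_mul, zero_mul]
  · rw [hφ.eq_of_ulam S P hloc hg ht h]
    rfl

/-- **the restriction keeps the `l`-sections** -/
theorem ures_mul (hφ : LConst l HF φ) (χ : Γ → ℂ) (ht : t ∈ K) :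
    ures ψ F H HF V (φ * χ) t = φ t * ures ψ F H HF V χ t := by
  refine (kop_congr fun g hg => ?_).trans (congrFun (map_smul (ures ψ F H HF V) (φ t) χ) t)
  by_cases h : ulam ψ F H V g⁻¹ t⁻¹ = 0
  · rw [h, zero_mul, zero_mul]
  · have h1 := hφ.inv.eq_of_ulam S P hloc (inv_mem hg) (inv_mem ht) h
    simp only [inv_inv] at h1
    rw [← h1]
    rfl

end Zero

/-- the data at the `l`-element `t` : `C` is its connected centraliser -/
structure Cu (F : MulAut Γ) (H K : Subgroup Γ) (V : Set Γ) (t : Γ) (C CF K' : Subgroup Γ) (V' : Set Γ) : Prop where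
  loc : Loc F H V t C
  cut : ∀ x, x ∈ V' ↔ x ∈ V ∧ x ∈ C
  sub : Set1 F C CF K' V'
  le : K' ≤ K

namespace Cu

omit [IsUltrametricDist E] in
theorem inv (U : Cu F H K V t C CF K' V') : Cu F H K V t⁻¹ C CF K' V' := ⟨loc_inv U.loc, U.cut, U.sub, U.le⟩

variable (U : Cu F H K V t C CF K' V') (S : Set1 F H HF K V) (P : Pl l E) (ht : t ∈ K) (h2 : IsUni l t) (hv : v ∈ K')
  (h4 : IsSs l v)
include U S P ht h2 hv h4

open Classical in
/-- **The Curtis formula** for the kernel. -/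
theorem ulam_eq [Fintype HF] (hs : s ∈ HF) (hu : u ∈ HF) (h1 : IsUni l s) (h3 : IsSs l u) (hsu : s * u = u * s) :
    ulam ψ F H V (s * u) (t * v) =
      (Nat.card CF : ℂ)⁻¹ * ∑ x : HF, if (x : Γ)⁻¹ * s * x = t then ulam ψ F C V' ((x : Γ)⁻¹ * u * x) v else 0 := by
  obtain ⟨e, e1, e2⟩ := exists_pow_two h1 h2
  refine (Lim.of_close P (S.close_curtis P.prime hs hu ht (U.le hv) e1 e2 (P.prime.coprime_iff_not_dvd.2 h3).symm
    (P.prime.coprime_iff_not_dvd.2 h4).symm hsu (U.loc.cent v (U.sub.mem (U.sub.le hv))).symm U.loc U.sub.fix) ?_).eq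
  refine (Lim.sum _ fun (x : HF) _ => Lim.ite _ (fun _ => ?_) fun _ => Lim.const 0).smul _
  refine (U.sub.lim' P (S.fixed (mul_mem (mul_mem (inv_mem x.2) hu) x.2)) hv).congr fun m _ => ?_
  exact congrArg Nat.cast (cnt_congr fun y hy => (U.cut _).trans (and_iff_left (mul_mem (inv_mem hy) (U.sub.stab y hy))))

/-- the same without a decomposition of `g` -/
theorem ulam_eq' [Fintype HF] (hg : g ∈ HF) :
    ulam ψ F H V g (t * v) = (Nat.card CF : ℂ)⁻¹ * ∑ x : HF, ulam ψ F C V' (t⁻¹ * ((x : Γ)⁻¹ * g * x)) v := by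
  have := Fact.mk P.prime
  obtain ⟨u, hu, s, hs, hJ⟩ := exists_isJ (p := l) hg
  have e0 : g = s * u := hJ.eq.symm.trans hJ.comm
  rw [congrArg (fun g => ulam ψ F H V g (t * v)) e0, U.ulam_eq S P ht h2 hv h4 hs hu hJ.uni hJ.ss hJ.comm.symm]
  refine congrArg _ (Finset.sum_congr rfl fun x _ => ?_)
  split_ifs with e
  · rw [← e, e0]
    congr 1
    group
  by_cases h5 : t⁻¹ * ((x : Γ)⁻¹ * g * x) ∈ C
  · refine (ulam_sing U.sub.toSet0 P (loc_one (fun v hv => ((U.cut v).1 hv).2) U.loc.lang) ((U.sub.fix _).2 ⟨h5, S.fixed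
      (mul_mem (inv_mem (S.le ht)) (mul_mem (mul_mem (inv_mem x.2) hg) x.2))⟩) hv (fun h6 => e ?_) h4).symm
    have h7 := hJ.conj (x : Γ)⁻¹
    rw [inv_inv] at h7
    exact (h7.unique ⟨h6, h2, U.loc.cent _ h5, by rw [U.loc.cent _ h5, mul_inv_cancel_left]⟩).2
  · exact (ulam_eq_zero U.sub.stab (U.sub.mem (U.sub.le hv)) h5).symm

/-- **The Curtis formula** for the restriction. -/
theorem ures_eq (hφ : IsCls HF φ) : ures ψ F H HF V φ (t * v) = ures ψ F C CF V' (fun c => φ (t * c)) v := by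
  classical
  have := S.finite
  have := U.sub.finite
  have := Fintype.ofFinite HF
  have := Fintype.ofFinite CF
  have hle : CF ≤ HF := fun x hx => (S.fix x).2 ⟨U.loc.le (U.sub.mem hx), U.sub.fixed hx⟩
  have h1 : ∀ x : HF, ∑ g : HF, ulam ψ F C V' (t⁻¹⁻¹ * ((x : Γ)⁻¹ * (g : Γ)⁻¹ * x)) v⁻¹ * φ g =
      ∑ c : CF, ulam ψ F C V' (c : Γ)⁻¹ v⁻¹ * φ (t * c) := fun x => by
    rw [← Equiv.sum_comp ((Equiv.mulRight (⟨t, S.le ht⟩ : HF)).trans (MulAut.conj x).toEquiv)]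
    symm
    refine Finset.sum_of_injOn (Subgroup.inclusion hle) (Subgroup.inclusion_injective hle).injOn (by simp) (fun g _ h => ?_)
      fun c _ => ?_
    · show ulam ψ F C V' (t⁻¹⁻¹ * ((x : Γ)⁻¹ * ((x : Γ) * ((g : Γ) * t) * (x : Γ)⁻¹)⁻¹ * x)) v⁻¹ * _ = 0
      rw [ulam_eq_zero U.sub.stab (inv_mem (U.sub.mem (U.sub.le hv))) fun h5 => h ⟨⟨g, (U.sub.fix _).2 ⟨?_, S.fixed g.2⟩⟩,
        by simp, rfl⟩, zero_mul]
      convert inv_mem h5 using 1
      group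
    · show _ = ulam ψ F C V' (t⁻¹⁻¹ * ((x : Γ)⁻¹ * ((x : Γ) * ((c : Γ) * t) * (x : Γ)⁻¹)⁻¹ * x)) v⁻¹ *
        φ ((x : Γ) * ((c : Γ) * t) * (x : Γ)⁻¹)
      rw [hφ _ (mul_mem (hle c.2) (S.le ht)) x x.2, ← U.loc.cent c (U.sub.mem c.2)]
      congr 2
      group
  rw [ures_apply, ures_apply, ← U.loc.cent v (U.sub.mem (U.sub.le hv)), mul_inv_rev, Finset.sum_congr rfl fun (g : HF) _ => by
    rw [U.inv.ulam_eq' S P (inv_mem ht) h2.inv (inv_mem hv) h4.inv (inv_mem g.2), mul_assoc, Finset.sum_mul],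
    ← Finset.mul_sum, Finset.sum_comm, Finset.sum_congr rfl fun x _ => h1 x, Finset.sum_const, Finset.card_univ, nsmul_eq_mul,
    ← Nat.card_eq_fintype_card, mul_left_comm, inv_mul_cancel_left₀ (card_ne_zero HF)]

end Cu

end Cfsg.Agent.RL
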