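import Cfsg.Agent.RL.Ov
import Cfsg.Agent.RL.Cur

/-!
# Levi pairs (helper4, project RL)

* `Rg D C` : `C` is a rational connected reductive subgroup of maximal rank (it has a datum over `D`);
* `LP D C L V` : `L` is a rational Levi subgroup of `C` and `V` is the unipotent radical of a parabolic subgroup of `C`
  with the Levi complement `L`;
* `LP.set1`, `LP.trans`, `LP.tr`, `LP.cu`, `LP.inter`, `LP.frame`, `LP.cj`, `LP.of_pair`, `uind_eq_R`, `finite_LP`.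
-/

set_option autoImplicit false
set_option linter.unusedSectionVars false

namespace Cfsg.Agent.RL

open Cfsg Cfsg.Agent.DL Cfsg.Agent.DL.CF Cfsg.Agent.DL.Uni Cfsg.Agent.DL.Asm Cfsg.Agent.DL.PP Cfsg.Agent.RL.Fix
  Cfsg.Agent.Nodes.Reps Cfsg.Agent.Nodes.BNOf Cfsg.Agent.Nodes Cfsg.Agent.ChevalleyStructure.CoxeterGeom
  Cfsg.Agent.Tits.Roots Matrix

variable {p : ℕ} [Fact p.Prime] {k : Type} [Field k] [CharP k p] [IsAlgClosed k] {Y : Type} [Group Y] {N : Type}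
  [Fintype N] [DecidableEq N] {ρ : Y →* GL N k} {F : MulAut Y} {G C C' L M T U V W : Subgroup Y}

/-- `C` has a datum over `D` -/
def Rg (D : Datum p ρ F G) (C : Subgroup Y) : Prop := ∃ X : Datum p ρ F C, Ov D X

/-- `L` is a rational Levi subgroup of `C`, `V L` is a parabolic subgroup of `C` with the radical `V` -/
def LP (D : Datum p ρ F G) (C L V : Subgroup Y) : Prop :=
  ∃ (X : Datum p ρ F C) (lam : X.R → ℤ), Ov D X ∧ KZ.Levi.Stab X lam ∧ L = Lv X lam ∧ V = Rd X lam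

variable {D : Datum p ρ F G} {X : Datum p ρ F C} {h t y : Y}

/-- the datum of a Levi subgroup -/
noncomputable abbrev dLv {lam : D.R → ℤ} (hs : KZ.Levi.Stab D lam) : Datum p ρ F (Lv D lam) := D.sub Zl_sub hs rfl

theorem dLv_cen {lam : D.R → ℤ} (hs : KZ.Levi.Stab D lam) (Z : Set Y) : (dLv hs).cen Z = D.cen (Z ∪ Zl D lam) :=
  sub_cen Zl_sub hs rfl Z

theorem dLv_Lv {lam : D.R → ℤ} (hs : KZ.Levi.Stab D lam) (mu : D.R → ℤ) : Lv (dLv hs) mu = Lv D mu ⊓ Lv D lam :=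
  sub_Lv mu Zl_sub hs rfl

theorem dLv_Rd {lam : D.R → ℤ} (hs : KZ.Levi.Stab D lam) (mu : D.R → ℤ) : Rd (dLv hs) mu = Rd D mu ⊓ Lv D lam :=
  sub_Rd mu Zl_sub hs rfl

theorem stab_one (ht : t ∈ D.T) (hF : F t = t) : ∀ a ∈ D.Sz {t}, D.g a ∈ D.Sz {t} :=
  fun _ => D.g_mem_Sz (Set.singleton_subset_iff.2 ht) fun z hz => by rw [hz, hF]; rfl

theorem T_mem_tori (D : Datum p ρ F G) : D.T ∈ tori D := D.pair_self.mem_tori

theorem tori_le (hT : T ∈ tori D) : T ≤ G := pair_T_le (pair_Vof hT)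

theorem Ov.tori_eq (H : Ov D X) : tori X = {T | T ∈ tori D ∧ T ≤ C} := by
  obtain ⟨y, H⟩ := H
  ext T
  constructor
  · intro hT
    obtain ⟨z, hz, e, h1⟩ := id hT
    exact ⟨⟨z * y, mul_mem (H.le hz) H.mem, by rw [e, H.tor, cj_mul], h1⟩, tori_le hT⟩
  · rintro ⟨⟨z, hz, rfl, h1⟩, h2⟩
    obtain ⟨c, hc, m, hm, rfl⟩ := H.cnj z hz h2
    exact ⟨c, hc, by rw [cj_mul, cj_mul, D.cj_T hm, H.tor], h1⟩

theorem Ov.T_mem (H : Ov D X) : X.T ∈ tori D := (H.tori_eq.le (T_mem_tori X)).1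

/-- data over `D` with the same torus -/
theorem Ov.by_one {F' : MulAut Y} {X : Datum p ρ F' C} (H : Ov D X) (e : X.T = D.T) : OvBy D X 1 := by
  obtain ⟨y, H⟩ := H
  have := H.mul_NN (inv_mem (mem_NN_of_cj H.mem (H.tor.symm.trans e).le))
  rwa [mul_inv_cancel] at this

theorem cjBy_S (X : Datum p ρ F C) {F' : MulAut Y} (A : Amb p ρ F') (hF : ∀ z, F' (h * z * h⁻¹) = h * F z * h⁻¹)
    (hC : cj h C = C') (B : Set (X.I → ℤ)) : (X.cjBy h A hF hC).S B = cj h (X.S B) := (RGD.cj_Sup h B).symm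

theorem OvBy.cjBy {F' F'' : MulAut Y} {X : Datum p ρ F' C} (H : OvBy D X y) (hh : h ∈ G) (A : Amb p ρ F'')
    (hF : ∀ z, F'' (h * z * h⁻¹) = h * F' z * h⁻¹) (hC : cj h C = C') : OvBy D (X.cjBy h A hF hC) (h * y) := by
  have h1 : ∀ mu, Lv (X.cjBy h A hF hC) mu = cj h (Lv X mu) := fun mu => by
    rw [Lv, Lv, Datum.cen, Datum.cen, cj_sup, cjBy_S, Sz_eq, Sz_eq]
    rfl
  have h2 : ∀ mu, Rd (X.cjBy h A hF hC) mu = cj h (Rd X mu) := fun mu => cjBy_S X A hF hC _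
  refine ⟨mul_mem hh H.mem, hC ▸ (cj_mono h H.le).trans (cj_eq_of_mem hh).le, ?_, fun lam => ?_, fun mu => ?_, fun z hz hT => ?_⟩
  · rw [cj_mul, ← H.tor]
  · obtain ⟨mu, e1, e2⟩ := H.fwd lam
    exact ⟨mu, by rw [h1, e1, cj_inf', hC, cj_mul], by rw [h2, e2, cj_inf', hC, cj_mul]⟩
  · obtain ⟨lam, e1, e2⟩ := H.bwd mu
    exact ⟨lam, by rw [h1, e1, cj_inf', hC, cj_mul], by rw [h2, e2, cj_inf', hC, cj_mul]⟩
  · obtain ⟨c, hc, m, hm, e⟩ := H.cnj (h⁻¹ * z) (mul_mem (inv_mem hh) hz) (by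
      rw [cj_mul, ← cj_le_cj_iff h, cj_cj_inv, hC]
      exact hT)
    exact ⟨h * c * h⁻¹, hC ▸ conj_mem_cj.2 hc, m, hm, by rw [eq_mul_of_inv_mul_eq e]; group⟩

theorem conj_fixed (hF : F h = h) (z : Y) : F (h * z * h⁻¹) = h * F z * h⁻¹ := by rw [map_mul, map_mul, map_inv, hF]

namespace Rg

theorem top (D : Datum p ρ F G) : Rg D G := ⟨D, Ov.refl D⟩

theorem le (H : Rg D C) : C ≤ G := H.choose_spec.le

theorem stab (H : Rg D C) : ∀ x ∈ C, F x ∈ C := fun _ => H.choose.F_mem_G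

theorem lang (H : Rg D C) : ∀ a ∈ C, ∃ c ∈ C, a = c⁻¹ * F c := fun _ => H.choose.lang_G

theorem of_ov (H : Ov D X) (H' : Rg X C') : Rg D C' := ⟨_, H.trans H'.choose_spec⟩

theorem to_ov (H : Ov D X) (hC : C' ≤ C) (H' : Rg D C') : Rg X C' := ⟨_, H.cancel H'.choose_spec hC⟩

theorem cj (H : Rg D C) (hh : h ∈ GF F G) : Rg D (cj h C) := by
  obtain ⟨X, y, H⟩ := H
  exact ⟨_, _, H.cjBy hh.1 X.amb (conj_fixed hh.2) rfl⟩

theorem pow (H : Rg D C) {m : ℕ} (hm : 0 < m) : Rg (D.pow hm) C :=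
  ⟨H.choose.pow hm, (Ov.pow' D hm).trans (H.choose_spec.trans (Ov.pow _ hm))⟩

/-- every rational torus is the torus of a frame -/
theorem frame (H : Rg D C) (hT : T ∈ tori D) (hC : T ≤ C) : ∃ X : Datum p ρ F C, Ov D X ∧ X.T = T := by
  obtain ⟨X, H⟩ := H
  obtain ⟨y, hy, rfl, h1⟩ : T ∈ tori X := H.tori_eq.ge ⟨hT, hC⟩
  exact ⟨X.conj hy ((X.stable_iff hy).1 h1), H.trans (Ov.conj _ _), rfl⟩

theorem exists_torus (H : Rg D C) : ∃ T ∈ tori D, T ≤ C := ⟨_, H.choose_spec.T_mem, H.choose.T_le_G⟩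

theorem toral (H : Rg D C) (ht : t ∈ GF F C) (hs : IsSs p t) : ∃ T ∈ tori D, T ≤ C ∧ t ∈ T := by
  obtain ⟨X, H⟩ := H
  obtain ⟨T, hT, h1⟩ := (sys' X).toral ht hs
  exact ⟨T, (H.tori_eq.le hT).1, (H.tori_eq.le hT).2, h1⟩

theorem le_cco (H : Rg D C) (hT : T ∈ tori D) (hC : T ≤ C) (ht : t ∈ T) : T ≤ cco C t := by
  obtain ⟨X, -, rfl⟩ := H.frame hT hC
  rw [X.cco_eq_cen ht]
  exact X.T_le_cen _

/-- connected centralisers of semisimple elements -/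
theorem cco (H : Rg D C) (ht : t ∈ GF F C) (hs : IsSs p t) : Rg D (cco C t) := by
  obtain ⟨T, hT, hC, h1⟩ := H.toral ht hs
  obtain ⟨X, H, rfl⟩ := H.frame hT hC
  have hZ := Set.singleton_subset_iff.2 h1
  exact ⟨_, H.trans (Ov.sub hZ (stab_one h1 ht.2) (X.cco_eq_cen h1).symm)⟩

theorem finite (D : Datum p ρ F G) (C : Subgroup Y) : Finite (GF F C) := D.amb.finite_GF C

/-- the trivial Levi pair -/
theorem lp_top (H : Rg D C) : LP D C C ⊥ := by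
  obtain ⟨X, H⟩ := H
  exact ⟨X, 0, H, stab_iff.2 (by rw [Lv_zero]; exact fun _ => X.F_mem_G), (Lv_zero X).symm, (Rd_zero X).symm⟩

end Rg

namespace LP

theorem of_frame (H : Ov D X) (lam : X.R → ℤ) (hs : ∀ x ∈ Lv X lam, F x ∈ Lv X lam) : LP D C (Lv X lam) (Rd X lam) :=
  ⟨X, lam, H, stab_iff.2 hs, rfl, rfl⟩

theorem of_ov (H : Ov D X) (H' : LP X C' L V) : LP D C' L V := by
  obtain ⟨X', lam, h1, h2⟩ := H'
  exact ⟨X', lam, H.trans h1, h2⟩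

theorem to_ov (H : Ov D X) (hC : C' ≤ C) (H' : LP D C' L V) : LP X C' L V := by
  obtain ⟨X', lam, h1, h2⟩ := H'
  exact ⟨X', lam, H.cancel h1 hC, h2⟩

/-- the pairs of a torus -/
theorem of_pair (H : Ov D X) (hp : Pair X T V) : LP D C T V := by
  obtain ⟨y, hy, hF, rfl, rfl⟩ := X.exists_of_pair hp
  obtain ⟨lam, e1, e2⟩ := exists_reg (X.conj hy hF)
  rw [← e1, ← e2]
  exact of_frame (H.trans (Ov.conj hy hF)) lam (by rw [e1]; exact fun _ => (X.conj hy hF).F_mem_T)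

variable (H : LP D C L V)
include H

theorem rgC : Rg D C := by
  obtain ⟨X, -, h1, -⟩ := H
  exact ⟨X, h1⟩

theorem rg : Rg D L := by
  obtain ⟨X, lam, h1, hs, rfl, -⟩ := H
  exact ⟨dLv hs, h1.trans (Ov.sub _ _ _)⟩

theorem le : L ≤ C := by
  obtain ⟨X, lam, -, -, rfl, -⟩ := H
  exact Lv_le X lam

theorem V_le : V ≤ C := by
  obtain ⟨X, lam, -, -, -, rfl⟩ := H
  exact Rd_le X lam

theorem norm : ∀ x ∈ L, ∀ v ∈ V, x * v * x⁻¹ ∈ V := by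
  obtain ⟨X, lam, -, -, rfl, rfl⟩ := H
  exact fun _ hx _ hv => Lv_norm hx hv

theorem disj : ∀ x ∈ L, x ∈ V → x = 1 := by
  obtain ⟨X, lam, -, -, rfl, rfl⟩ := H
  exact fun _ hx hv => Lv_disj hx hv

theorem cj_V (hh : h ∈ L) : cj h V = V := by
  obtain ⟨X, lam, -, -, rfl, rfl⟩ := H
  exact cj_Rd_of_mem hh

theorem GF_le : GF F L ≤ GF F C := fun _ hx => ⟨H.le hx.1, hx.2⟩

theorem frob : Ev fun d => ∀ v ∈ V, (F ^ d) v ∈ V := by
  obtain ⟨X, lam, -, -, -, rfl⟩ := H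
  exact (ev_split X).mono fun d _ ⟨_, h1⟩ _ hv => h1.mem_S (fun _ h => h.1) hv

/-- **the standing hypotheses hold** -/
theorem set1 : Set1 F C (GF F C) (GF F L) V where
  fin := fin_fix D.amb
  fix _ := Iff.rfl
  stab := H.rgC.stab
  frob := H.frob
  le := H.GF_le
  norm x hx := H.norm x hx.1
  spec := by
    obtain ⟨X, lam, -, -, rfl, rfl⟩ := H
    intro i1 i2
    obtain ⟨d, e, h1⟩ := X.exists_split'
    let _ : Fintype (GF F (KZ.Levi.Lc X lam)) := i2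
    exact ⟨d, h1.d_pos, (KZ.Levi.isInd (lf_hl X lam) h1).spec⟩

/-- every frame with a torus inside `L` is a frame of the pair -/
theorem frame (H' : Ov D X) (hT : X.T ≤ L) : ∃ lam, L = Lv X lam ∧ V = Rd X lam := by
  have h2 := H.le
  have h3 := H.V_le
  obtain ⟨X₁, lam, h1, hs, rfl, rfl⟩ := H
  obtain ⟨z, h4⟩ := h1.cancel H' le_rfl
  obtain ⟨c, hc, m, hm, rfl⟩ := (OvBy.sub Zl_sub hs rfl).cnj z h4.mem (h4.tor ▸ hT)
  have h5 := h4.mul_NN (inv_mem hm)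
  rw [mul_inv_cancel_right, mul_one] at h5
  obtain ⟨mu, e1, e2⟩ := h5.fwd lam
  exact ⟨mu, by rw [e1, cj_eq_of_mem (A := Lv X₁ lam) hc, inf_eq_left.2 h2], by rw [e2, cj_Rd_of_mem hc, inf_eq_left.2 h3]⟩

theorem frame' (hT : T ∈ tori D) (hL : T ≤ L) :
    ∃ (X : Datum p ρ F C) (lam : X.R → ℤ), Ov D X ∧ X.T = T ∧ L = Lv X lam ∧ V = Rd X lam := by
  obtain ⟨X, h1, rfl⟩ := H.rgC.frame hT (hL.trans H.le)
  obtain ⟨lam, h2⟩ := H.frame h1 hL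
  exact ⟨X, lam, h1, rfl, h2⟩

/-- a common frame of two pairs -/
theorem frame₂ (H' : LP D C M U) (hT : T ∈ tori D) (hL : T ≤ L) (hM : T ≤ M) : ∃ (X : Datum p ρ F C) (lam mu : X.R → ℤ),
    Ov D X ∧ X.T = T ∧ L = Lv X lam ∧ V = Rd X lam ∧ M = Lv X mu ∧ U = Rd X mu := by
  obtain ⟨X, lam, h1, rfl, h2, h3⟩ := H.frame' hT hL
  obtain ⟨mu, h4⟩ := H'.frame h1 hM
  exact ⟨X, lam, mu, h1, rfl, h2, h3, h4⟩

/-- **the intersection with a subgroup containing a common rational torus** -/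
theorem inter (H' : Rg D C') (hC : C' ≤ C) (hT : T ∈ tori D) (hL : T ≤ L) (hT' : T ≤ C') : LP D C' (L ⊓ C') (V ⊓ C') := by
  have h0 := H.rg.stab
  obtain ⟨X, lam, h1, rfl, rfl, rfl⟩ := H.frame' hT hL
  obtain ⟨X', h2, e⟩ := H'.frame hT hT'
  obtain ⟨mu, e1, e2⟩ := ((h1.cancel h2 hC).by_one e).fwd lam
  rw [cj_one] at e1 e2
  rw [← e1, ← e2]
  exact of_frame h2 mu (by rw [e1]; exact fun x hx => ⟨h0 x hx.1, H'.stab x hx.2⟩)

/-- a Levi subgroup inside a subgroup -/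
theorem cut (H' : Rg D C') (hC : C' ≤ C) (hL : L ≤ C') : LP D C' L (V ⊓ C') := by
  obtain ⟨T, hT, h1⟩ := H.rg.exists_torus
  have := H.inter H' hC hT h1 (h1.trans hL)
  rwa [inf_eq_left.2 hL] at this

theorem cj (hh : h ∈ GF F G) : LP D (cj h C) (cj h L) (cj h V) := by
  have h0 := (H.rg.cj hh).stab
  obtain ⟨X, lam, ⟨y, h1⟩, -, rfl, rfl⟩ := H
  have e1 : Lv (X.cjBy h X.amb (conj_fixed hh.2) rfl) lam = Reps.cj h (Lv X lam) := by
    rw [Lv, Lv, Datum.cen, Datum.cen, cj_sup, cjBy_S, Sz_eq, Sz_eq]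
    rfl
  rw [← e1] at h0 ⊢
  rw [show Reps.cj h (Rd X lam) = Rd (X.cjBy h X.amb (conj_fixed hh.2) rfl) lam from (cjBy_S X _ _ rfl _).symm]
  exact of_frame ⟨_, h1.cjBy hh.1 X.amb (conj_fixed hh.2) rfl⟩ lam h0

theorem cj' (hh : h ∈ GF F C) : LP D C (Reps.cj h L) (Reps.cj h V) := by
  have := H.cj ⟨H.rgC.le hh.1, hh.2⟩
  rwa [cj_eq_of_mem hh.1] at this

/-- conjugation by an element that keeps the rationality of `L` -/
theorem cj'' (hh : h ∈ C) (hF : h⁻¹ * F h ∈ L) : LP D C (Reps.cj h L) (Reps.cj h V) := by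
  obtain ⟨c, hc, e⟩ := H.rg.lang _ hF
  have := H.cj' (h := h * c⁻¹) (mem_GF.2 ⟨mul_mem hh (inv_mem (H.le hc)), by
    rw [map_mul, map_inv, eq_mul_of_inv_mul_eq e]; group⟩)
  rwa [cj_mul, cj_mul, cj_eq_of_mem (inv_mem hc), H.cj_V (inv_mem hc)] at this

theorem pow {m : ℕ} (hm : 0 < m) : LP (D.pow hm) C L V := by
  have h0 := H.rg.stab
  obtain ⟨X, lam, h1, -, rfl, rfl⟩ := H
  exact of_frame (X := X.pow hm) ((Ov.pow' D hm).trans (h1.trans (Ov.pow _ hm))) lam fun x hx =>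
    pow_mem_of_maps (H := (Lv X lam : Set Y)) h0 m hx

theorem mem_sup (hW : W ≤ L) (z : Y) : z ∈ V ⊔ W ↔ ∃ v ∈ V, ∃ u ∈ W, z = v * u := by
  refine ⟨fun hz => ?_, fun ⟨v, hv, u, hu, e⟩ => e ▸ mul_mem (Subgroup.mem_sup_left hv) (Subgroup.mem_sup_right hu)⟩
  rw [← SetLike.mem_coe, Subgroup.coe_mul_of_right_le_normalizer_left V W fun x hx =>
    Subgroup.mem_normalizer_iff.2 fun v => ⟨H.norm x (hW hx) v, fun hv => by
      simpa [mul_assoc] using H.norm _ (inv_mem (hW hx)) _ hv⟩] at hz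
  obtain ⟨v, hv, u, hu, e⟩ := hz
  exact ⟨v, hv, u, hu, e.symm⟩

theorem sup_inf (hW : W ≤ L) : (V ⊔ W) ⊓ L = W := by
  refine le_antisymm (fun z hz => ?_) (le_inf le_sup_right hW)
  obtain ⟨v, hv, u, hu, rfl⟩ := (H.mem_sup hW z).1 hz.1
  rwa [H.disj v ((mul_mem_cancel_right (hW hu)).1 hz.2) hv, one_mul]

theorem uniq : ∀ v ∈ V, ∀ v' ∈ V, ∀ l ∈ L, ∀ l' ∈ L, v * l = v' * l' → l = l' := fun v hv v' hv' l hl l' hl' e => by
  have h1 : l' * l⁻¹ = v'⁻¹ * v := by rw [eq_mul_inv_of_mul_eq e]; group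
  exact (mul_inv_eq_one.1 (H.disj _ (mul_mem hl' (inv_mem hl)) (h1 ▸ mul_mem (inv_mem hv') hv))).symm

/-- the data for the transitivity -/
theorem tr (hW : W ≤ L) : Tr F C L V W ↑(V ⊔ W) :=
  ⟨H.le, fun _ hu => hW hu, H.mem_sup hW, H.norm, H.uniq, H.rg.lang⟩

/-- **transitivity** -/
theorem trans (H' : LP D L M W) : LP D C M (V ⊔ W) := by
  have h0 := H'.rg.stab
  have h7 := H.rg.stab
  obtain ⟨T, hT, h1⟩ := H'.rg.exists_torus
  obtain ⟨X, lam, h2, rfl, rfl, rfl⟩ := H.frame' hT (h1.trans H'.le)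
  obtain ⟨mu, rfl, rfl⟩ := H'.frame (X := dLv (stab_iff.2 h7)) (h2.trans (Ov.sub _ _ _)) h1
  obtain ⟨nu, h3⟩ := exists_lex X lam mu
  have e1 : Lv (dLv (stab_iff.2 h7)) mu = Lv X nu := by
    refine (dLv_cen _ (Zl X mu)).trans ?_
    rw [Lv, Datum.cen, Datum.cen]
    congr 2
    ext a
    rw [mem_Sz_lf]
    refine ⟨fun ha => ⟨ha.1, (h3 a ha.1).2.2 ⟨(mem_Sz_lf.1 ⟨ha.1, fun z hz => ha.2 z (Or.inr hz)⟩).2,
      (mem_Sz_lf.1 ⟨ha.1, fun z hz => ha.2 z (Or.inl hz)⟩).2⟩⟩, fun ha => ⟨ha.1, fun z hz => ?_⟩⟩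
    have h4 := (h3 a ha.1).2.1 ha.2
    exact hz.elim ((mem_Sz_lf.2 ⟨ha.1, h4.2⟩).2 z) ((mem_Sz_lf.2 ⟨ha.1, h4.1⟩).2 z)
  have e2 : Rd X lam ⊔ Rd (dLv (stab_iff.2 h7)) mu = Rd X nu := by
    rw [dLv_Rd]
    refine le_antisymm (sup_le (RGD.Sup_mono fun a ha => ⟨ha.1, (h3 a ha.1).1.2 (Or.inl ha.2)⟩) ?_)
      (RGD.Sup_le fun a ha => ?_)
    · rw [Rd, Lv, (uni_Rad X _).inf_cen Zl_sub]
      exact RGD.Sup_mono fun a ha => ⟨ha.1.1, (h3 a ha.1.1).1.2 (Or.inr ⟨(mem_Sz_lf.1 ha.2).2, ha.1.2⟩)⟩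
    · rcases (h3 a ha.1).1.1 ha.2 with h4 | h4
      · exact le_sup_of_le_left (RGD.le_Sup (S := Rad X (lf X lam)) ⟨ha.1, h4⟩)
      · exact le_sup_of_le_right (le_inf (RGD.le_Sup (S := Rad X (lf X mu)) ⟨ha.1, h4.2⟩) ((X_le_Lv ha.1).2 h4.1))
  rw [e1] at h0
  rw [e1, e2]
  exact of_frame h2 nu h0

variable (ht : t ∈ GF F L) (hs : IsSs p t)
include ht hs

theorem loc : Loc F C V t (cco C t) where
  le := cco_le C t
  cent _ := comm_of_mem_cco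
  cut v hv e := by
    obtain ⟨T, hT, h1, h2⟩ := H.rg.toral ht hs
    obtain ⟨X, lam, -, rfl, -, rfl⟩ := H.frame' hT h1
    rw [X.cco_eq_cen h2]
    exact (uni_Rad X _).inf_centralizer_le (Set.singleton_subset_iff.2 h2) ⟨hv, fun z hz => by rw [hz, e]⟩
  lang := (H.rgC.cco (H.GF_le ht) hs).lang

theorem inf_cco : L ⊓ cco C t = cco L t := by
  have h0 := H.rg.stab
  obtain ⟨T, hT, h1, h2⟩ := H.rg.toral ht hs
  obtain ⟨X, lam, -, rfl, rfl, -⟩ := H.frame' hT h1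
  have hZ := Set.singleton_subset_iff.2 h2
  rw [← sub_Lv lam hZ (stab_one h2 ht.2) (X.cco_eq_cen h2).symm,
    (dLv (stab_iff.2 h0)).cco_eq_cen h2, dLv_cen, Set.union_comm]
  exact sub_cen _ _ _ _

/-- **the pair of the connected centraliser** -/
theorem cco : LP D (cco C t) (cco L t) (V ⊓ cco C t) := by
  obtain ⟨T, hT, h1, h2⟩ := H.rg.toral ht hs
  rw [← H.inf_cco ht hs]
  exact H.inter (H.rgC.cco (H.GF_le ht) hs) (cco_le C t) hT h1 (H.rgC.le_cco hT (h1.trans H.le) h2)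

/-- **the data for the Curtis formula** -/
theorem cu : Cu F C (GF F L) V t (CF.cco C t) (GF F (CF.cco C t)) (GF F (CF.cco L t)) ↑(V ⊓ CF.cco C t) :=
  ⟨H.loc ht hs, fun _ => Iff.rfl, (H.cco ht hs).set1, fun _ hx => ⟨cco_le L t hx.1, hx.2⟩⟩

end LP

theorem isSs_of_isUni {l : ℕ} (hl : l.Prime) (hp : l ≠ p) (h : IsUni l t) : IsSs p t := fun h1 => by
  obtain ⟨e, he⟩ := h
  exact hp ((Nat.prime_dvd_prime_iff_eq Fact.out hl).1 ((Fact.out : p.Prime).dvd_of_dvd_pow (he ▸ h1))).symm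

/-- the hypothesis of `uind_mul`, `ures_mul` -/
theorem LP.hloc (H : LP D C L V) {l : ℕ} (hl : l.Prime) (hp : l ≠ p) : ∀ t ∈ GF F L, IsUni l t → ∃ C', Loc F C V t C' :=
  fun _ ht h => ⟨_, H.loc ht (isSs_of_isUni hl hp h)⟩

theorem GF_tor (hT : T ≤ G) : GF F T = T ⊓ GF F G :=
  Subgroup.ext fun _ => ⟨fun h => ⟨h.1, hT h.1, h.2⟩, fun h => ⟨h.1, h.2.2⟩⟩

/-- **on tori the induction is the Deligne-Lusztig induction** -/
theorem uind_eq_R {l : ℕ} [Fact l.Prime] (hp : l ≠ p) (ψ : ℂ →+* ℂ_[l]) (H : Pair D T V) (f : Y → ℂ) {g : Y} (hg : g ∈ GF F G) :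
    uind ψ F G (GF F T) V f g = R D T f g := by
  obtain ⟨d, hd, h1⟩ := (purBox' G D T V H).ex
  rw [R_eq' H f g hg, (LP.of_pair (Ov.refl D) H).set1.uind_eq_ind (pl_padic l) hg hd fun t ht =>
    (h1 g hg t (GF_tor (pair_T_le H) ▸ ht)).2 l hp ψ, GF_tor (pair_T_le H)]

/-- a Levi pair with a torus is a pair -/
theorem LP.pair (H : LP D C T V) (H' : Ov D X) (hT : T ∈ tori D) : Pair X T V := by
  obtain ⟨X', lam, h1, rfl, e, rfl⟩ := H.frame' hT le_rfl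
  obtain ⟨y, h2⟩ := H'.cancel h1 le_rfl
  obtain ⟨w, hw⟩ := X'.exists_chamber (lf X' lam) fun a ha h0 => by
    have h3 := mem_Sz_of_le (D := X') (Z := X'.T) subset_rfl ha (((X_le_Lv ha).2 h0).trans (e ▸ X'.T_le_cen _))
    rwa [X'.Sz_T] at h3
  obtain ⟨m, hm, -⟩ := X'.exists_rp w
  obtain ⟨mu, e1, e2⟩ := exists_reg X
  obtain ⟨nu, e3, e4⟩ := h2.fwd mu
  obtain ⟨w', hw'⟩ := X'.exists_chamber (lf X' nu) fun a ha h0 => by
    have h3 := mem_Sz_of_le (D := X') (Z := X'.T) subset_rfl ha (((X_le_Lv ha).2 h0).trans (by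
      rw [e3, e1, ← h2.tor]; exact inf_le_left.trans (X'.T_le_cen _)))
    rwa [X'.Sz_T] at h3
  obtain ⟨m', hm', -⟩ := X'.exists_rp w'
  have key : ∀ {lam w m}, X'.Rp w m → (∀ a, X'.Rt a → (0 < lf X' lam (X'.act w a) ↔ 0 ≤ a)) → Rd X' lam = Reps.cj m X'.U := by
    intro lam w m hm hw
    rw [X'.cj_S hm fun _ h => h.1, Rd]
    congr 1
    ext a
    refine ⟨fun ha => ⟨X'.act w⁻¹ a, ⟨ha.1.act _, (hw _ (ha.1.act _)).1 ?_⟩, act_act_inv X' w a⟩, ?_⟩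
    · rw [act_act_inv]
      exact ha.2
    · rintro ⟨b, hb, rfl⟩
      exact ⟨hb.1.act _, (hw b hb.1).2 hb.2⟩
  have h4 : m * m'⁻¹ ∈ X'.NN := mul_mem ⟨w, hm⟩ (inv_mem ⟨w', hm'⟩)
  refine ⟨m * m'⁻¹ * y, mul_mem (X'.NN_le_G h4) h2.mem, ?_, ?_, X'.map_T⟩
  · rw [cj_mul, ← h2.tor, X'.cj_T h4]
  · rw [e2, inf_eq_left.2 ((cj_mono y X.U_le_G).trans (cj_eq_of_mem h2.mem).le)] at e4
    rw [cj_mul, ← e4, key hm hw, key hm' hw', cj_mul, cj_inv_cj]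

variable (D C) in
/-- there are finitely many Levi pairs -/
theorem finite_LP : {z : Subgroup Y × Subgroup Y | LP D C z.1 z.2}.Finite := by
  have h1 : ∀ X : Datum p ρ F C, (Set.range fun lam => (Lv X lam, Rd X lam)).Finite := fun X => by
    refine ((X.finite_roots.finite_subsets.prod X.finite_roots.finite_subsets).image
      fun A => (X.T ⊔ X.S A.1, X.S A.2)).subset ?_
    rintro _ ⟨lam, rfl⟩
    exact ⟨(X.Sz (Zl X lam), Rad X (lf X lam)), ⟨fun _ h => h.1, fun _ h => h.1⟩, rfl⟩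
  refine ((St.finite_tori D).biUnion (t := fun T => {z : Subgroup Y × Subgroup Y | LP D C z.1 z.2 ∧ T ≤ z.1})
    fun T hT => ?_).subset fun z hz => ?_
  · rcases Set.eq_empty_or_nonempty {z : Subgroup Y × Subgroup Y | LP D C z.1 z.2 ∧ T ≤ z.1} with h | ⟨z, hz⟩
    · rw [h]
      exact Set.finite_empty
    · obtain ⟨X, h2, rfl⟩ := hz.1.rgC.frame hT (hz.2.trans hz.1.le)
      refine (h1 X).subset fun z hz => ?_
      obtain ⟨lam, e1, e2⟩ := hz.1.frame h2 hz.2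
      exact ⟨lam, Prod.ext e1.symm e2.symm⟩
  · obtain ⟨T, hT, h2⟩ := (LP.rg hz).exists_torus
    exact Set.mem_biUnion hT ⟨hz, h2⟩

variable (D) in
/-- a generic cocharacter for a set of cocharacters -/
theorem exists_lam (Λ : Set (D.R → ℤ)) : ∃ lam, ∀ a, D.Rt a → (lf D lam a = 0 ↔ ∀ mu ∈ Λ, lf D mu a = 0) := by
  classical
  have key : ∀ s : Finset (D.I → ℤ), ∃ lam, ∀ a, D.Rt a → ((∀ mu ∈ Λ, lf D mu a = 0) → lf D lam a = 0) ∧
      (a ∈ s → lf D lam a = 0 → ∀ mu ∈ Λ, lf D mu a = 0) := fun s => by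
    induction s using Finset.induction_on with
    | empty => exact ⟨0, fun a _ => ⟨fun _ => lf_zero D a, fun h => absurd h (Finset.notMem_empty _)⟩⟩
    | insert b s _ ih =>
      obtain ⟨lam, h1⟩ := ih
      by_cases hb : ∀ mu ∈ Λ, lf D mu b = 0
      · exact ⟨lam, fun a ha => ⟨(h1 a ha).1, fun h => (Finset.mem_insert.1 h).elim (fun e _ => e ▸ hb) (h1 a ha).2⟩⟩
      · push Not at hb
        obtain ⟨mu, hmu, h2⟩ := hb
        obtain ⟨nu, h3⟩ := exists_lex D lam mu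
        refine ⟨nu, fun a ha => ⟨fun h => (h3 a ha).2.2 ⟨(h1 a ha).1 h, h mu hmu⟩, fun h h0 => ?_⟩⟩
        have h4 := (h3 a ha).2.1 h0
        exact (Finset.mem_insert.1 h).elim (fun e => absurd (e ▸ h4.2) h2) fun h => (h1 a ha).2 h h4.1
  obtain ⟨lam, h⟩ := key D.finite_roots.toFinset
  exact ⟨lam, fun a ha => ⟨(h a ha).2 (D.finite_roots.mem_toFinset.2 ha), (h a ha).1⟩⟩

end Cfsg.Agent.RL
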