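import Cfsg.Agent.KZ.Levi.Main
import Cfsg.Agent.DL.St.Main
import Cfsg.Agent.DL.PP.Det

/-!
# Levi subgroups in a frame, data over a datum (helper4, project RL)

* `lf D lam`, `Lv D lam`, `Rd D lam` : the linear form, the Levi subgroup and the unipotent radical of a cocharacter;
* `Ov D X` : the datum `X` of a subgroup `C` of maximal rank is compatible with `D`.
-/

set_option autoImplicit false
set_option linter.unusedSectionVars false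

namespace Cfsg.Agent.RL

open Cfsg Cfsg.Agent.DL Cfsg.Agent.DL.CF Cfsg.Agent.DL.Uni Cfsg.Agent.DL.Asm Cfsg.Agent.DL.PP
  Cfsg.Agent.Nodes.Reps Cfsg.Agent.Nodes.BNOf Cfsg.Agent.Nodes Cfsg.Agent.ChevalleyStructure.CoxeterGeom
  Cfsg.Agent.Tits.Roots Matrix

variable {p : ℕ} [Fact p.Prime] {k : Type} [Field k] [CharP k p] [IsAlgClosed k] {Y : Type} [Group Y] {N : Type}
  [Fintype N] [DecidableEq N] {ρ : Y →* GL N k} {F F' F'' : MulAut Y} {G C C' : Subgroup Y}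

section Frame

variable (D : Datum p ρ F G) (lam mu : D.R → ℤ)

/-- the linear form of a cocharacter -/
def lf : (D.I → ℤ) →+ ℤ := AddMonoidHom.mk' (fun b => D.wt b ⬝ᵥ lam) fun a b => by rw [map_add, add_dotProduct]

theorem lf_apply (b : D.I → ℤ) : lf D lam b = D.wt b ⬝ᵥ lam := rfl

theorem lf_hl : ∀ b, D.wt b ⬝ᵥ lam = lf D lam b := fun _ => rfl

/-- the Levi subgroup of a cocharacter -/
def Lv : Subgroup Y := D.cen (Zl D lam)

/-- the unipotent radical of the parabolic subgroup of a cocharacter -/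
def Rd : Subgroup Y := D.S (Rad D (lf D lam))

theorem T_le_Lv : D.T ≤ Lv D lam := D.T_le_cen _

theorem Lv_le : Lv D lam ≤ G := D.cen_le_G _

theorem Rd_le : Rd D lam ≤ G := D.S_le_G fun _ h => h.1

variable {D lam mu}

theorem mem_Sz_lf {a : D.I → ℤ} : a ∈ D.Sz (Zl D lam) ↔ D.Rt a ∧ lf D lam a = 0 := mem_Sz_Zl (lf_hl D lam)

theorem mem_Rad {a : D.I → ℤ} {l : (D.I → ℤ) →+ ℤ} : a ∈ Rad D l ↔ D.Rt a ∧ 0 < l a := Iff.rfl

theorem Lv_norm {x v : Y} (hx : x ∈ Lv D lam) (hv : v ∈ Rd D lam) : x * v * x⁻¹ ∈ Rd D lam := cen_norm (lf_hl D lam) hx hv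

theorem Lv_disj {x : Y} (hx : x ∈ Lv D lam) (hv : x ∈ Rd D lam) : x = 1 := cen_disj (lf_hl D lam) hx hv

theorem cj_Rd_of_mem {x : Y} (hx : x ∈ Lv D lam) : cj x (Rd D lam) = Rd D lam := Subgroup.ext fun v => by
  rw [mem_cj]
  exact ⟨fun h => by simpa [mul_assoc] using Lv_norm hx h, fun h => by simpa using Lv_norm (inv_mem hx) h⟩

theorem Lv_congr (h : ∀ a, D.Rt a → (lf D lam a = 0 ↔ lf D mu a = 0)) : Lv D lam = Lv D mu := by
  have : D.Sz (Zl D lam) = D.Sz (Zl D mu) := Set.ext fun a => by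
    rw [mem_Sz_lf, mem_Sz_lf]
    exact and_congr_right (h a)
  rw [Lv, Lv, Datum.cen, Datum.cen, this]

theorem Rd_congr (h : ∀ a, D.Rt a → (0 < lf D lam a ↔ 0 < lf D mu a)) : Rd D lam = Rd D mu := by
  have : Rad D (lf D lam) = Rad D (lf D mu) := Set.ext fun a => and_congr_right (h a)
  rw [Rd, Rd, this]

theorem X_le_cen {Z : Set Y} {a : D.I → ℤ} (ha : a ∈ D.Sz Z) : D.X a ≤ D.cen Z :=
  (RGD.le_Sup (S := D.Sz Z) ha).trans (D.S_le_cen Z)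

theorem mem_Sz_of_le {Z : Set Y} (hZ : Z ⊆ D.T) {a : D.I → ℤ} (ha : D.Rt a) (h : D.X a ≤ D.cen Z) : a ∈ D.Sz Z :=
  ⟨ha, fun z hz => by
    have h1 := D.cen_le_centralizer hZ (h (D.x_mem ha 1)) z hz
    have h2 := D.tor' ha (hZ hz) 1
    rw [h1, mul_inv_cancel_right, mul_one] at h2
    exact (D.x_inj a ha h2).symm⟩

theorem X_le_Lv {a : D.I → ℤ} (ha : D.Rt a) : D.X a ≤ Lv D lam ↔ lf D lam a = 0 :=
  ⟨fun h => (mem_Sz_lf.1 (mem_Sz_of_le Zl_sub ha h)).2, fun h => X_le_cen (mem_Sz_lf.2 ⟨ha, h⟩)⟩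

theorem Lv_le_Lv : Lv D lam ≤ Lv D mu ↔ ∀ a, D.Rt a → lf D lam a = 0 → lf D mu a = 0 :=
  ⟨fun h _ ha h0 => (X_le_Lv ha).1 (((X_le_Lv ha).2 h0).trans h), fun h => sup_le (T_le_Lv D mu)
    (RGD.Sup_le fun a ha => (X_le_Lv ha.1).2 (h a ha.1 (mem_Sz_lf.1 ha).2))⟩

/-- the rationality of a connected centraliser in terms of roots -/
theorem stab_cen {Z : Set Y} (hZ : Z ⊆ D.T) : (∀ a ∈ D.Sz Z, D.g a ∈ D.Sz Z) ↔ ∀ x ∈ D.cen Z, F x ∈ D.cen Z :=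
  ⟨fun h _ hx => (D.sub hZ h rfl).F_mem_G hx, fun h a ha => mem_Sz_of_le hZ (D.g_root a ha.1) fun y hy => by
    rw [← D.map_X ha.1] at hy
    obtain ⟨x, hx, rfl⟩ := hy
    exact h x (X_le_cen ha hx)⟩

theorem stab_iff : KZ.Levi.Stab D lam ↔ ∀ x ∈ Lv D lam, F x ∈ Lv D lam := stab_cen Zl_sub

variable (D lam)

/-- **the centraliser of a torus is connected** -/
theorem Lv_eq : Lv D lam = G ⊓ Subgroup.centralizer (Zl D lam) := by
  refine le_antisymm (le_inf (Lv_le D lam) (D.cen_le_centralizer Zl_sub)) fun g hg => ?_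
  obtain ⟨c, hc, m, ⟨w, hm⟩, hmc, rfl⟩ := D.exists_cen_form Zl_sub hg.1 hg.2
  let H : Subgroup D.W :=
    { carrier := {w | ∃ x ∈ Lv D lam, D.Rp w x}
      one_mem' := ⟨1, one_mem _, rp_one⟩
      mul_mem' := fun ⟨x, hx, h⟩ ⟨y, hy, h'⟩ => ⟨x * y, mul_mem hx hy, h.mul h'⟩
      inv_mem' := fun ⟨x, hx, h⟩ => ⟨x⁻¹, inv_mem hx, h.inv⟩ }
  obtain ⟨x, hx, h5⟩ : w ∈ H := by
    refine mem_of_fix D (lf D lam) (fun a ha h0 => ?_) fun a => ?_
    · obtain ⟨x, hx, h⟩ := D.exists_rp_rf ha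
      exact ⟨x, (sup_le (T_le_Lv D lam) (sup_le ((X_le_Lv ha).2 h0) ((X_le_Lv ha.neg).2 (by rw [map_neg, h0, neg_zero]))) :
        _ ≤ Lv D lam) hx, h⟩
    · refine sub_eq_zero.1 (eq_zero_of_zpow (k := k) fun u => ?_)
      have := D.χ_act_of_comm Zl_sub hm hmc a ⟨u, rfl⟩
      rw [χ_Zl (lf_hl D lam), χ_Zl (lf_hl D lam)] at this
      rw [_root_.zpow_sub, Units.ext this, mul_inv_cancel]
  have := mul_mem hx (T_le_Lv D lam (h5.unique hm))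
  rw [mul_inv_cancel_left] at this
  exact mul_mem (D.S_le_cen _ hc) this

theorem lf_zero (a : D.I → ℤ) : lf D 0 a = 0 := dotProduct_zero _

theorem lf_add (mu : D.R → ℤ) (a : D.I → ℤ) : lf D (lam + mu) a = lf D lam a + lf D mu a := dotProduct_add _ _ _

theorem lf_neg (a : D.I → ℤ) : lf D (-lam) a = -lf D lam a := dotProduct_neg _ _

theorem lf_smul (n : ℤ) (a : D.I → ℤ) : lf D (n • lam) a = n * lf D lam a := dotProduct_smul _ _ _

theorem Lv_zero : Lv D 0 = G := by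
  refine le_antisymm (Lv_le D 0) fun g hg => ?_
  rw [Lv_eq]
  refine ⟨hg, ?_⟩
  rintro _ ⟨u, rfl⟩
  have : coch (0 : D.R → ℤ) u = 1 := funext fun _ => zpow_zero u
  show D.τ (coch 0 u) * g = g * D.τ (coch 0 u)
  rw [this, map_one, one_mul, mul_one]

theorem Rd_zero : Rd D 0 = ⊥ := eq_bot_iff.2 (RGD.Sup_le fun a ha => absurd (lf_zero D a) ha.2.ne')

theorem Lv_neg : Lv D (-lam) = Lv D lam := Lv_congr fun a _ => by rw [lf_neg, neg_eq_zero]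

/-- a multiple of every linear form comes from a cocharacter -/
theorem exists_lf (l : (D.I → ℤ) →+ ℤ) : ∃ (n : ℤ) (lam : D.R → ℤ), 0 < n ∧ ∀ b, lf D lam b = n * l b := by
  let A := Wt D * (of D.cw)ᵀ
  refine ⟨A.det * A.det, A.det • ((of D.cw)ᵀ *ᵥ (A.adjugate *ᵥ fun i => l (sr i))), mul_self_pos.2 (det_cartan D), fun b => ?_⟩
  rw [lf_smul, lf_apply, ← vecMul_Wt, dotProduct_mulVec, vecMul_vecMul, dotProduct_mulVec, vecMul_vecMul, mul_adjugate,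
    vecMul_smul, vecMul_one, smul_dotProduct, D.map_eq_sum l b, mul_assoc]
  rfl

/-- a regular dominant cocharacter -/
theorem exists_reg : ∃ lam, Lv D lam = D.T ∧ Rd D lam = D.U := by
  obtain ⟨n, lam, hn, h⟩ := exists_lf D Slope.htHom
  have h1 : ∀ a, D.Rt a → (0 < lf D lam a ↔ 0 ≤ a) := fun a ha => by
    rw [h, mul_pos_iff_of_pos_left hn]
    refine ⟨fun h2 => ha.pos_or_neg.resolve_right fun h3 => ?_, fun h2 => D.ht_pos_of_pos a ⟨ha, h2⟩⟩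
    have := D.ht_pos_of_pos _ ⟨ha.neg, neg_nonneg.2 h3⟩
    rw [map_neg] at this
    omega
  refine ⟨lam, le_antisymm (sup_le le_rfl (RGD.Sup_le fun a ha => ?_)) (T_le_Lv D lam), ?_⟩
  · obtain ⟨h2, h3⟩ := mem_Sz_lf.1 ha
    rcases h2.pos_or_neg with h4 | h4
    · exact absurd h3 ((h1 a h2).2 h4).ne'
    · have := (h1 _ h2.neg).2 (neg_nonneg.2 h4)
      rw [map_neg] at this
      omega
  · have : Rad D (lf D lam) = RGD.Pos D.cs D.h := Set.ext fun a => and_congr_right (h1 a)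
    rw [Rd, this]

/-- a lexicographic combination -/
theorem exists_lex (mu : D.R → ℤ) : ∃ nu, ∀ a, D.Rt a → (0 < lf D nu a ↔ 0 < lf D lam a ∨ lf D lam a = 0 ∧ 0 < lf D mu a) ∧
    (lf D nu a = 0 ↔ lf D lam a = 0 ∧ lf D mu a = 0) := by
  classical
  let M : ℤ := 1 + ∑ a ∈ D.finite_roots.toFinset, |lf D mu a|
  refine ⟨M • lam + mu, fun a ha => ?_⟩
  have h1 := Finset.single_le_sum (f := fun a => |lf D mu a|) (fun _ _ => abs_nonneg _) (D.finite_roots.mem_toFinset.2 ha)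
  have h2 := abs_lt.1 (show |lf D mu a| < M by omega)
  rw [lf_add, lf_smul]
  rcases lt_trichotomy (lf D lam a) 0 with h | h | h
  · have : M * lf D lam a + lf D mu a < 0 := by nlinarith
    omega
  · rw [h]
    omega
  · have : 0 < M * lf D lam a + lf D mu a := by nlinarith
    omega

variable {D}

theorem lf_act (w : D.W) (a : D.I → ℤ) : lf D (D.Wm w *ᵥ lam) (D.act w a) = lf D lam a := by
  rw [lf_apply, dotProduct_mulVec, D.wt_act, lf_apply]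

theorem image_act (w : D.W) {P : ℤ → Prop} : D.act w '' {a | D.Rt a ∧ P (lf D lam a)} =
    {a | D.Rt a ∧ P (lf D (D.Wm w *ᵥ lam) a)} := by
  ext a
  constructor
  · rintro ⟨b, hb, rfl⟩
    exact ⟨hb.1.act w, by rw [lf_act]; exact hb.2⟩
  · intro h
    refine ⟨D.act w⁻¹ a, ⟨h.1.act _, ?_⟩, act_act_inv D w a⟩
    rw [← lf_act lam w, act_act_inv]
    exact h.2

theorem Sz_eq : D.Sz (Zl D lam) = {a | D.Rt a ∧ lf D lam a = 0} := Set.ext fun _ => mem_Sz_lf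

theorem cj_Rd {w : D.W} {m : Y} (hm : D.Rp w m) : cj m (Rd D lam) = Rd D (D.Wm w *ᵥ lam) := by
  rw [Rd, D.cj_S hm fun _ h => h.1]
  exact congrArg D.S (image_act lam w (P := fun z => 0 < z))

theorem cj_Lv {w : D.W} {m : Y} (hm : D.Rp w m) : cj m (Lv D lam) = Lv D (D.Wm w *ᵥ lam) := by
  rw [Lv, Lv, Datum.cen, Datum.cen, cj_sup, D.cj_T ⟨w, hm⟩, D.cj_S hm D.Sz_root, Sz_eq, Sz_eq,
    image_act lam w (P := fun z => z = 0)]

section
variable {y : Y} (hy : y ∈ G) (hF : y⁻¹ * F y ∈ D.NN)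

theorem conj_lf : lf (D.conj hy hF) lam = lf D lam := rfl

theorem conj_Rd : Rd (D.conj hy hF) lam = cj y (Rd D lam) := D.conj_S hy hF _

theorem conj_Lv : Lv (D.conj hy hF) lam = cj y (Lv D lam) := by
  rw [Lv, Lv, Datum.cen, Datum.cen, cj_sup, D.conj_S, Sz_eq, Sz_eq]
  rfl

end

section
variable {Z : Set Y} (hZ : Z ⊆ D.T) (hF : ∀ a ∈ D.Sz Z, D.g a ∈ D.Sz Z) (hC : D.cen Z = C)

theorem sub_lf (c : (D.sub hZ hF hC).I → ℤ) : lf (D.sub hZ hF hC) lam c = lf D lam (D.io Z c) := rfl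

theorem io_image {A : Set ((D.sub hZ hF hC).I → ℤ)} {B : Set (D.I → ℤ)}
    (h : ∀ c, c ∈ A ↔ (D.sub hZ hF hC).Rt c ∧ D.io Z c ∈ B) : D.io Z '' A = B ∩ D.Sz Z := by
  ext a
  constructor
  · rintro ⟨c, hc, rfl⟩
    exact ⟨((h c).1 hc).2, (D.sub_rt hZ hF hC).1 ((h c).1 hc).1⟩
  · intro ha
    have h1 := ha.2
    rw [← D.io_roots] at h1
    obtain ⟨c, hc, rfl⟩ := h1
    exact ⟨c, (h c).2 ⟨hc, ha.1⟩, rfl⟩

theorem sub_cen (Z' : Set Y) : (D.sub hZ hF hC).cen Z' = D.cen (Z' ∪ Z) := by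
  have : D.Sz (Z' ∪ Z) = D.Sz Z' ∩ D.Sz Z := Set.ext fun a =>
    ⟨fun h => ⟨⟨h.1, fun z hz => h.2 z (Or.inl hz)⟩, h.1, fun z hz => h.2 z (Or.inr hz)⟩,
      fun h => ⟨h.1.1, fun z hz => hz.elim (h.1.2 z) (h.2.2 z)⟩⟩
  rw [Datum.cen, Datum.cen, D.sub_S, this, io_image hZ hF hC (A := (D.sub hZ hF hC).Sz Z') (B := D.Sz Z') fun c =>
    and_congr_right fun hc => ⟨fun h => ⟨((D.sub_rt hZ hF hC).1 hc).1, h⟩, fun h => h.2⟩]

theorem sub_Rd : Rd (D.sub hZ hF hC) lam = Rd D lam ⊓ C := by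
  subst hC
  rw [Rd, Rd, D.sub_S, (uni_Rad D _).inf_cen hZ, io_image hZ hF rfl (A := Rad (D.sub hZ hF rfl) (lf (D.sub hZ hF rfl) lam))
    (B := Rad D (lf D lam)) fun c => and_congr_right fun hc => ⟨fun h => ⟨((D.sub_rt hZ hF rfl).1 hc).1, h⟩, fun h => h.2⟩]

theorem sub_Lv : Lv (D.sub hZ hF hC) lam = Lv D lam ⊓ C := by
  rw [Lv_eq, Lv_eq, inf_right_comm, inf_eq_right.2 (hC ▸ D.cen_le_G Z : C ≤ G)]
  rfl

end

end Frame

/-- The datum `X` of the subgroup `C` is compatible with the datum `D`, along the element `y`. -/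
structure OvBy (D : Datum p ρ F G) (X : Datum p ρ F' C) (y : Y) : Prop where
  mem : y ∈ G
  le : C ≤ G
  tor : X.T = cj y D.T
  fwd : ∀ lam, ∃ mu, Lv X mu = cj y (Lv D lam) ⊓ C ∧ Rd X mu = cj y (Rd D lam) ⊓ C
  bwd : ∀ mu, ∃ lam, Lv X mu = cj y (Lv D lam) ⊓ C ∧ Rd X mu = cj y (Rd D lam) ⊓ C
  cnj : ∀ z ∈ G, cj z D.T ≤ C → ∃ c ∈ C, ∃ m ∈ D.NN, z = c * y * m

/-- The datum `X` of the subgroup `C` is compatible with the datum `D`. -/
def Ov (D : Datum p ρ F G) (X : Datum p ρ F' C) : Prop := ∃ y, OvBy D X y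

variable {D : Datum p ρ F G} {X : Datum p ρ F' C} {X' : Datum p ρ F'' C'} {y y' : Y}

theorem mem_NN_of_cj {m : Y} (hm : m ∈ G) (h : cj m D.T ≤ D.T) : m ∈ D.NN :=
  D.mem_NN_of_conj hm fun _ ht => h (conj_mem_cj.2 ht)

namespace OvBy

theorem of_eq {D' : Datum p ρ F' G} (hy : y ∈ G) (e : (D.R → ℤ) → D'.R → ℤ) (he : Function.Surjective e)
    (hT : D'.T = cj y D.T) (h : ∀ lam, Lv D' (e lam) = cj y (Lv D lam) ∧ Rd D' (e lam) = cj y (Rd D lam)) : OvBy D D' y := by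
  have h1 : ∀ A : Subgroup Y, A ≤ G → cj y A ⊓ G = cj y A := fun A hA =>
    inf_eq_left.2 ((cj_mono y hA).trans (cj_eq_of_mem hy).le)
  refine ⟨hy, le_rfl, hT, fun lam => ⟨e lam, ?_⟩, fun mu => ?_,
    fun z hz _ => ⟨z * y⁻¹, mul_mem hz (inv_mem hy), 1, one_mem _, by group⟩⟩
  · rw [h1 _ (Lv_le D _), h1 _ (Rd_le D _)]
    exact h lam
  · obtain ⟨lam, rfl⟩ := he mu
    exact ⟨lam, by rw [h1 _ (Lv_le D _), h1 _ (Rd_le D _)]; exact h lam⟩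

theorem refl (D : Datum p ρ F G) : OvBy D D 1 :=
  of_eq (one_mem _) id Function.surjective_id (cj_one _).symm fun _ => ⟨(cj_one _).symm, (cj_one _).symm⟩

theorem conj (hy : y ∈ G) (hF : y⁻¹ * F y ∈ D.NN) : OvBy D (D.conj hy hF) y :=
  of_eq hy id Function.surjective_id rfl fun lam => ⟨conj_Lv lam hy hF, conj_Rd lam hy hF⟩

theorem pow (D : Datum p ρ F G) {m : ℕ} (hm : 0 < m) : OvBy D (D.pow hm) 1 :=
  of_eq (one_mem _) id Function.surjective_id (cj_one _).symm fun _ => ⟨(cj_one _).symm, (cj_one _).symm⟩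

theorem pow' (D : Datum p ρ F G) {m : ℕ} (hm : 0 < m) : OvBy (D.pow hm) D 1 :=
  of_eq (one_mem _) id Function.surjective_id (cj_one _).symm fun _ => ⟨(cj_one _).symm, (cj_one _).symm⟩

theorem sub {Z : Set Y} (hZ : Z ⊆ D.T) (hF : ∀ a ∈ D.Sz Z, D.g a ∈ D.Sz Z) (hC : D.cen Z = C) :
    OvBy D (D.sub hZ hF hC) 1 where
  mem := one_mem _
  le := hC ▸ D.cen_le_G Z
  tor := (cj_one _).symm
  fwd lam := ⟨lam, by rw [cj_one, sub_Lv], by rw [cj_one, sub_Rd]⟩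
  bwd lam := ⟨lam, by rw [cj_one, sub_Lv], by rw [cj_one, sub_Rd]⟩
  cnj z hz h := by
    obtain ⟨c, hc, m, hm, e⟩ := D.exists_conj_cen hZ hC hz fun s hs => by
      rw [SetLike.mem_coe, mem_cj, ← D.centralizer_T]
      refine ⟨G.mul_mem (G.mul_mem (G.inv_mem hz) (D.T_le_G (hZ hs))) hz, fun t ht => ?_⟩
      have h1 := D.cen_le_centralizer hZ (hC ▸ h (conj_mem_cj.2 ht)) s hs
      calc t * (z⁻¹ * s * z) = z⁻¹ * (z * t * z⁻¹ * s) * z := by group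
        _ = z⁻¹ * s * z * t := by rw [← h1]; group
    exact ⟨c, hc, m, hm, by rw [e, mul_one]⟩

theorem mem_NN (h : OvBy D X y) {m : Y} (hm : m ∈ X.NN) : y⁻¹ * m * y ∈ D.NN :=
  mem_NN_of_cj (mul_mem (mul_mem (inv_mem h.mem) (h.le (X.NN_le_G hm))) h.mem) (by
    rw [cj_mul, cj_mul, ← h.tor, X.cj_T hm, h.tor, cj_inv_cj])

theorem mem_NN' (h : OvBy D X y) {m : Y} (hm : m ∈ D.NN) (hC : y * m * y⁻¹ ∈ C) : y * m * y⁻¹ ∈ X.NN :=
  mem_NN_of_cj hC (by rw [h.tor, cj_mul, cj_mul, cj_inv_cj, D.cj_T hm])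

theorem cut (hy : y' ∈ C) (hC : C' ≤ C) (A : Subgroup Y) : cj y' (cj y A ⊓ C) ⊓ C' = cj (y' * y) A ⊓ C' := by
  rw [cj_inf', cj_eq_of_mem hy, inf_assoc, inf_eq_right.2 hC, cj_mul]

theorem trans (h : OvBy D X y) (h' : OvBy X X' y') : OvBy D X' (y' * y) where
  mem := mul_mem (h.le h'.mem) h.mem
  le := h'.le.trans h.le
  tor := by rw [h'.tor, h.tor, cj_mul]
  fwd lam := by
    obtain ⟨mu, e1, e2⟩ := h.fwd lam
    obtain ⟨nu, e3, e4⟩ := h'.fwd mu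
    exact ⟨nu, by rw [e3, e1, cut h'.mem h'.le], by rw [e4, e2, cut h'.mem h'.le]⟩
  bwd nu := by
    obtain ⟨mu, e3, e4⟩ := h'.bwd nu
    obtain ⟨lam, e1, e2⟩ := h.bwd mu
    exact ⟨lam, by rw [e3, e1, cut h'.mem h'.le], by rw [e4, e2, cut h'.mem h'.le]⟩
  cnj z hz hT := by
    obtain ⟨c, hc, m, hm, rfl⟩ := h.cnj z hz (hT.trans h'.le)
    obtain ⟨c', hc', m', hm', rfl⟩ := h'.cnj c hc (by rwa [cj_mul, cj_mul, D.cj_T hm, ← h.tor] at hT)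
    exact ⟨c', hc', y⁻¹ * m' * y * m, mul_mem (h.mem_NN hm') hm, by group⟩

/-- the element is determined up to `N` -/
theorem mul_NN (h : OvBy D X y) {m : Y} (hm : m ∈ D.NN) : OvBy D X (y * m) where
  mem := mul_mem h.mem (D.NN_le_G hm)
  le := h.le
  tor := by rw [cj_mul, D.cj_T hm, h.tor]
  fwd lam := by
    obtain ⟨w, hw⟩ := hm
    rw [cj_mul, cj_mul, cj_Lv lam hw, cj_Rd lam hw]
    exact h.fwd _
  bwd mu := by
    obtain ⟨w, hw⟩ := hm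
    obtain ⟨lam, e⟩ := h.bwd mu
    refine ⟨D.Wm w⁻¹ *ᵥ lam, ?_⟩
    rwa [← cj_Lv lam hw.inv, ← cj_Rd lam hw.inv, cj_mul, cj_mul, cj_cj_inv, cj_cj_inv]
  cnj z hz hT := by
    obtain ⟨c, hc, m', hm', rfl⟩ := h.cnj z hz hT
    exact ⟨c, hc, m⁻¹ * m', mul_mem (inv_mem hm) hm', by group⟩

/-- two data over `D` are compatible -/
theorem cancel (h : OvBy D X y) (h' : OvBy D X' y') (hC : C' ≤ C) : ∃ c, OvBy X X' c := by
  obtain ⟨c, hc, m, hm, e⟩ := h.cnj y' h'.mem (h'.tor ▸ X'.T_le_G.trans hC)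
  have h1 := h'.mul_NN (inv_mem hm)
  rw [e, mul_inv_cancel_right] at h1
  refine ⟨c, hc, hC, by rw [h1.tor, h.tor, cj_mul], fun mu => ?_, fun nu => ?_, fun z hz hT => ?_⟩
  · obtain ⟨lam, e1, e2⟩ := h.bwd mu
    obtain ⟨nu, e3, e4⟩ := h1.fwd lam
    exact ⟨nu, by rw [e3, e1, cut hc hC], by rw [e4, e2, cut hc hC]⟩
  · obtain ⟨lam, e3, e4⟩ := h1.bwd nu
    obtain ⟨mu, e1, e2⟩ := h.fwd lam
    exact ⟨mu, by rw [e3, e1, cut hc hC], by rw [e4, e2, cut hc hC]⟩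
  · obtain ⟨c', hc', m', hm', e'⟩ := h1.cnj (z * y) (mul_mem (h.le hz) h.mem) (by rwa [cj_mul, ← h.tor])
    have e2 : y * m' * y⁻¹ = (c' * c)⁻¹ * z := by
      rw [eq_mul_inv_of_mul_eq e']
      group
    exact ⟨c', hc', y * m' * y⁻¹, h.mem_NN' hm' (e2 ▸ mul_mem (inv_mem (mul_mem (hC hc') hc)) hz), by rw [e2]; group⟩

end OvBy

namespace Ov

theorem le (h : Ov D X) : C ≤ G := h.choose_spec.le

theorem refl (D : Datum p ρ F G) : Ov D D := ⟨_, OvBy.refl D⟩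

theorem conj (hy : y ∈ G) (hF : y⁻¹ * F y ∈ D.NN) : Ov D (D.conj hy hF) := ⟨_, OvBy.conj hy hF⟩

theorem pow (D : Datum p ρ F G) {m : ℕ} (hm : 0 < m) : Ov D (D.pow hm) := ⟨_, OvBy.pow D hm⟩

theorem pow' (D : Datum p ρ F G) {m : ℕ} (hm : 0 < m) : Ov (D.pow hm) D := ⟨_, OvBy.pow' D hm⟩

theorem sub {Z : Set Y} (hZ : Z ⊆ D.T) (hF : ∀ a ∈ D.Sz Z, D.g a ∈ D.Sz Z) (hC : D.cen Z = C) :
    Ov D (D.sub hZ hF hC) := ⟨_, OvBy.sub hZ hF hC⟩

theorem trans (h : Ov D X) (h' : Ov X X') : Ov D X' := ⟨_, h.choose_spec.trans h'.choose_spec⟩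

theorem cancel (h : Ov D X) (h' : Ov D X') (hC : C' ≤ C) : Ov X X' := h.choose_spec.cancel h'.choose_spec hC

end Ov

end Cfsg.Agent.RL
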