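import Cfsg.Agent.RL.Fix
import Cfsg.Agent.DL.Lef.Spectral

/-!
# `l`-adic limits along the divisibility filter (helper4, project RL)

* `dv` : the filter of the sufficiently divisible numbers;
* `Lim ψ S z` : `ψ (S m)` tends to `ψ z`; `Cv ψ S`, `ulim ψ S`;
* `Lim.of_expI` : the limit of an exponential sum is its unit part; `gen_ulim` : the limit of a spectral family is a virtual character.
-/

set_option autoImplicit false

namespace Cfsg.Agent.RL

open Cfsg Cfsg.Agent.DL.Lef Cfsg.Agent.DL.CF Cfsg.Agent.RL.Fix Filter Topology Cfsg.Agent.Characters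
open scoped ComplexConjugate

/-- the divisibility filter -/
def dv : Filter ℕ where
  sets := {s | Ev fun m => m ∈ s}
  univ_sets := Ev.of_forall fun _ _ => trivial
  sets_of_superset h e := Ev.mono h fun _ _ hm => e hm
  inter_sets h h' := Ev.and h h'

theorem ev_dv {P : ℕ → Prop} : (∀ᶠ m in dv, P m) ↔ Ev P := Iff.rfl

theorem dv_neBot : dv.NeBot := ⟨fun h => by
  have h1 : Ev fun _ => False := ev_dv.1 (h ▸ eventually_bot)
  exact h1.ex.choose_spec.2⟩

theorem tendsto_mul_dv {d : ℕ} (hd : 0 < d) : Tendsto (fun m => d * m) dv dv := fun _ ⟨a, ha, h⟩ =>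
  ⟨a, ha, fun _ hm e => h _ (Nat.mul_pos hd hm) (e.mul_left d)⟩

theorem tendsto_factorial_dv {d : ℕ} (hd : 0 < d) : Tendsto (fun j : ℕ => d * j.factorial) atTop dv := fun _ h =>
  ev_factorial h hd

theorem ev_of_mul {P : ℕ → Prop} {d : ℕ} (hd : 0 < d) (h : Ev fun m => P (d * m)) : Ev P := by
  obtain ⟨a, ha, h1⟩ := h
  refine ⟨d * a, Nat.mul_pos hd ha, fun m hm ⟨c, hc⟩ => ?_⟩
  subst hc
  rw [mul_assoc] at hm ⊢
  exact h1 _ (Nat.pos_of_mul_pos_left hm) (dvd_mul_right a c)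

variable {E : Type*} [NormedField E]

/-- the prime `l` is small in `E` -/
structure Pl (l : ℕ) (E : Type*) [NormedField E] : Prop where
  prime : l.Prime
  lt : ‖(l : E)‖ < 1

theorem pl_padic (l : ℕ) [h : Fact l.Prime] : Pl l ℂ_[l] := ⟨h.out, padicComplex_norm_lt_one l⟩

open Classical in
/-- the indicator function of the units -/
noncomputable def uw (ψ : ℂ →+* E) (x : ℂ) : ℂ := if ‖ψ x‖ = 1 then 1 else 0

/-- `z` is the limit of `S` -/
def Lim (ψ : ℂ →+* E) (S : ℕ → ℂ) (z : ℂ) : Prop := Tendsto (fun m => ψ (S m)) dv (𝓝 (ψ z))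

/-- `S` converges -/
def Cv (ψ : ℂ →+* E) (S : ℕ → ℂ) : Prop := ∃ z, Lim ψ S z

open Classical in
/-- the limit -/
noncomputable def ulim (ψ : ℂ →+* E) (S : ℕ → ℂ) : ℂ := if h : Cv ψ S then h.choose else 0

variable {ψ : ℂ →+* E} {S T : ℕ → ℂ} {z w : ℂ} {l : ℕ}

namespace Lim

theorem unique (h : Lim ψ S z) (h' : Lim ψ S w) : z = w :=
  have := dv_neBot
  ψ.injective (tendsto_nhds_unique h h')

theorem cv (h : Lim ψ S z) : Cv ψ S := ⟨z, h⟩

theorem eq (h : Lim ψ S z) : ulim ψ S = z := by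
  rw [ulim, dif_pos h.cv]
  exact h.cv.choose_spec.unique h

theorem congr' (h : Lim ψ S z) (e : Ev fun m => S m = T m) : Lim ψ T z :=
  Tendsto.congr' (ev_dv.2 (e.mono fun _ _ e => congrArg ψ e)) h

theorem congr (h : Lim ψ S z) (e : ∀ m, 0 < m → S m = T m) : Lim ψ T z := h.congr' (Ev.of_forall e)

theorem const (z : ℂ) : Lim ψ (fun _ => z) z := tendsto_const_nhds

theorem add (h : Lim ψ S z) (h' : Lim ψ T w) : Lim ψ (fun m => S m + T m) (z + w) := by
  simpa only [Lim, map_add] using Tendsto.add h h'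

theorem mul (h : Lim ψ S z) (h' : Lim ψ T w) : Lim ψ (fun m => S m * T m) (z * w) := by
  simpa only [Lim, map_mul] using Tendsto.mul h h'

theorem neg (h : Lim ψ S z) : Lim ψ (fun m => -S m) (-z) := by
  simpa only [Lim, map_neg] using Tendsto.neg h

theorem sub (h : Lim ψ S z) (h' : Lim ψ T w) : Lim ψ (fun m => S m - T m) (z - w) := by
  simpa only [Lim, map_sub] using Tendsto.sub h h'

theorem smul (h : Lim ψ S z) (c : ℂ) : Lim ψ (fun m => c * S m) (c * z) := (const c).mul h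

theorem mul_const (h : Lim ψ S z) (c : ℂ) : Lim ψ (fun m => S m * c) (z * c) := h.mul (const c)

theorem pow (h : Lim ψ S z) (n : ℕ) : Lim ψ (fun m => S m ^ n) (z ^ n) := by
  simpa only [Lim, map_pow] using Tendsto.pow h n

theorem inv (h : Lim ψ S z) (hz : z ≠ 0) : Lim ψ (fun m => (S m)⁻¹) z⁻¹ := by
  simpa only [Lim, map_inv₀] using Tendsto.inv₀ h ((map_ne_zero ψ).2 hz)

theorem sum {ι : Type*} (s : Finset ι) {f : ι → ℕ → ℂ} {a : ι → ℂ} (h : ∀ i ∈ s, Lim ψ (f i) (a i)) :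
    Lim ψ (fun m => ∑ i ∈ s, f i m) (∑ i ∈ s, a i) := by
  simpa only [Lim, map_sum] using tendsto_finsetSum s h

theorem prod {ι : Type*} (s : Finset ι) {f : ι → ℕ → ℂ} {a : ι → ℂ} (h : ∀ i ∈ s, Lim ψ (f i) (a i)) :
    Lim ψ (fun m => ∏ i ∈ s, f i m) (∏ i ∈ s, a i) := by
  simpa only [Lim, map_prod] using tendsto_finsetProd s h

theorem ite (P : Prop) [Decidable P] (h : P → Lim ψ S z) (h' : ¬ P → Lim ψ T w) :
    Lim ψ (fun m => if P then S m else T m) (if P then z else w) := by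
  split_ifs with e
  exacts [h e, h' e]

theorem comp_mul (h : Lim ψ S z) {d : ℕ} (hd : 0 < d) : Lim ψ (fun m => S (d * m)) z := h.comp (tendsto_mul_dv hd)

theorem of_mul {d : ℕ} (hd : 0 < d) (h : Lim ψ (fun m => S (d * m)) z) : Lim ψ S z := fun s hs =>
  ev_of_mul (P := fun m => ψ (S m) ∈ s) hd (h hs)

theorem norm_le (h : Lim ψ S z) {r : ℝ} (hr : Ev fun m => ‖ψ (S m)‖ ≤ r) : ‖ψ z‖ ≤ r :=
  have := dv_neBot
  le_of_tendsto (Tendsto.norm h) (ev_dv.2 hr)

/-- `l`-independent sequences converge to their Lefschetz number -/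
theorem eq_glef (h : Lim ψ S z) {d : ℕ} (hd : 0 < d) (hI : LInd ψ fun m => S (d * m)) : z = glef S := by
  rw [glef_eq hd hI.1]
  exact ψ.injective (tendsto_nhds_unique (h.comp (tendsto_factorial_dv hd)) hI.2)

theorem comp_iff (σ : ℂ →+* ℂ) (hS : ∀ m, σ (S m) = S m) : Lim (ψ.comp σ) S z ↔ Lim ψ S (σ z) := by
  simp only [Lim, RingHom.comp_apply, hS]

variable [IsUltrametricDist E]

theorem of_close (P : Pl l E) (h : Close l S T) (hT : Lim ψ T z) : Lim ψ S z := h.tendsto P.lt ψ (fun _ h => ev_dv.2 h) hT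

/-- powers of an integral unit -/
theorem pow_unit (P : Pl l E) {x : ℂ} (hx : IsIntegral ℤ x) (h1 : ‖ψ x‖ = 1) : Lim ψ (fun m => x ^ m) 1 := by
  obtain ⟨r, hr, hr1⟩ := exists_norm_pow_sub_one_lt P.prime.ne_zero P.lt (hx.map ψ.toIntAlgHom) h1
  have hr2 : ‖ψ x ^ r - 1‖ < 1 := hr1
  have hxr : ‖ψ x ^ r‖ ≤ 1 := by rw [norm_pow, h1, one_pow]
  refine Metric.tendsto_nhds.2 fun ε hε => ?_
  obtain ⟨k, hk⟩ := exists_pow_lt_of_lt_one hε (max_lt P.lt hr2)
  refine ⟨r * l ^ k, Nat.mul_pos hr (pow_pos P.prime.pos k), fun m _ ⟨c, hc⟩ => ?_⟩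
  have h2 : ‖(ψ x ^ r) ^ l ^ k‖ ≤ 1 := by rw [norm_pow]; exact pow_le_one₀ (norm_nonneg _) hxr
  show dist (ψ (x ^ m)) (ψ 1) < ε
  rw [dist_eq_norm, map_pow, map_one, hc, pow_mul, pow_mul]
  refine (norm_pow_sub_one_le h2 c).trans_lt ((norm_pow_pow_sub_one_le hxr l k).trans_lt ?_)
  exact (mul_le_of_le_one_right (by positivity) hr2.le).trans_lt hk

omit [IsUltrametricDist E] in
theorem pow_lt {x : ℂ} (h1 : ‖ψ x‖ < 1) : Lim ψ (fun m => x ^ m) 0 := by
  have h2 : Tendsto id dv atTop := tendsto_atTop.2 fun b => ⟨b + 1, b.succ_pos, fun m hm e => (Nat.le_of_dvd hm e).trans' b.le_succ⟩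
  simpa only [Lim, map_pow, map_zero, Function.comp_id] using (tendsto_pow_atTop_nhds_zero_of_norm_lt_one h1).comp h2

theorem pow_uw (P : Pl l E) {x : ℂ} (hx : IsIntegral ℤ x) : Lim ψ (fun m => x ^ m) (uw ψ x) := by
  unfold uw
  split_ifs with h
  · exact pow_unit P hx h
  · exact pow_lt (lt_of_le_of_ne (norm_le_one_of_isIntegral (hx.map ψ.toIntAlgHom)) h)

/-- **the limit of an exponential sum is its unit part** -/
theorem of_expI (P : Pl l E) (hS : ExpI S) : Lim ψ S (wlef (uw ψ) S) :=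
  (sum _ fun γ hγ => (pow_uw P (hS.2 γ hγ)).smul (spec S γ)).congr fun m hm => (hS.1.rep.eq m hm).symm

theorem exists_int (P : Pl l E) (hS : ExpZ S) : ∃ n : ℤ, Lim ψ S n := by
  classical
  choose n hn using hS.2
  refine ⟨∑ γ ∈ (spec S).support, if ‖ψ γ‖ = 1 then n γ else 0, ?_⟩
  convert of_expI P hS.1 using 1
  rw [wlef, Int.cast_sum]
  refine Finset.sum_congr rfl fun γ _ => ?_
  rw [uw, hn]
  split_ifs <;> simp

end Lim

theorem Cv.lim (h : Cv ψ S) : Lim ψ S (ulim ψ S) := h.choose_spec.eq.symm ▸ h.choose_spec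

theorem ulim_congr' (e : Ev fun m => S m = T m) : ulim ψ S = ulim ψ T := by
  by_cases h : Cv ψ S
  · exact (h.lim.congr' e).eq.symm
  · rw [ulim, ulim, dif_neg h, dif_neg fun h' => h (h'.lim.congr' (e.mono fun _ _ e => e.symm)).cv]

theorem ulim_mul {d : ℕ} (hd : 0 < d) : ulim ψ (fun m => S (d * m)) = ulim ψ S := by
  by_cases h : Cv ψ S
  · exact (h.lim.comp_mul hd).eq
  · rw [ulim, ulim, dif_neg h, dif_neg fun h' => h (h'.lim.of_mul hd).cv]

theorem ulim_const (z : ℂ) : ulim ψ (fun _ => z) = z := (Lim.const z).eq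

variable [IsUltrametricDist E]

theorem ulim_close (P : Pl l E) (h : Close l S T) : ulim ψ S = ulim ψ T := by
  by_cases h1 : Cv ψ T
  · exact (h1.lim.of_close P h).eq
  · rw [ulim, ulim, dif_neg h1, dif_neg fun h' => h1 (h'.lim.of_close P h.symm).cv]

variable {G : Type*} [Group G] [Fintype G] {R : ℕ → G → ℂ}

omit [IsUltrametricDist E] in
theorem lim_classInner {a : G → ℂ} (h : ∀ g, Lim ψ (fun m => R m g) (a g)) (χ : G → ℂ) :
    Lim ψ (fun m => classInner (R m) χ) (classInner a χ) :=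
  (Lim.sum _ fun g _ => (h g).mul_const _).smul _

/-- **the limit of a spectral family is a virtual character** -/
theorem gen_of_lim (P : Pl l E) (h : Spectral G R) {a : G → ℂ} (ha : ∀ g, Lim ψ (fun m => R m g) (a g)) :
    IsGeneralizedCharacter G a :=
  Brauer.isGeneralizedCharacter_of_int (fun g x => ((ha _).congr fun m hm => h.cls m hm g x).unique (ha g)) fun χ hχ =>
    let ⟨n, hn⟩ := Lim.exists_int (ψ := ψ) P (h.expZ χ (Core.isIrr_isCharacter hχ))
    ⟨n, (lim_classInner ha χ).unique hn⟩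

end Cfsg.Agent.RL
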